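import Groth.Agent.AlgSpLib.InfBC
import Groth.Agent.AlgSpLib.InfGlue
import Groth.Agent.AlgSpLib.InfCharts
import Groth.Agent.AlgSpLib.EtaleSmoothLocal
import Groth.Agent.AlgSpDec.IdealEt
import Groth.Agent.AlgSpDec.QCohIdeal
import Groth.Agent.AlgSpDec.AffineLocal
import Groth.Agent.S10630
import Groth.Agent.S10631

/-!
# The first order infinitesimal neighbourhood is a universal first order thickening
-/

set_option backward.isDefEq.respectTransparency false
set_option backward.isDefEq.respectTransparency.types false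

universe u

open CategoryTheory CategoryTheory.Limits AlgebraicGeometry Opposite AlgSp

namespace Groth.Agent.InfNbhdUniv

open Groth.Agent.AlgSpLib Groth.Agent.AlgSpDec

variable {S : Scheme.{u}} {Z Z₁ U : Sp S}

/-- An affine scheme over a space is etale locally over an affine etale chart. -/
theorem exists_affine_chart_over (hU : IsAlgSpace U) {E : Over S} [IsAffine E.left] (g : (yon S).obj E ⟶ U) :
    ∃ (E' V : Over S) (π : E' ⟶ E) (φ : E' ⟶ V) (p : (yon S).obj V ⟶ U), IsAffine E'.left ∧ IsAffine V.left ∧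
      Etale π.left ∧ Surjective π.left ∧ RepWith @Etale p ∧
      (yon S).map π ≫ g = (yon S).map φ ≫ p := by
  obtain ⟨W, a, ha, has⟩ := hU.atlas
  let X := ha.rep.pullback g
  let q : X ⟶ E := ha.rep.snd g
  let r : X ⟶ W := ha.rep.fst' g
  have : Etale q.left := ha.property_snd g
  have : Surjective q.left := has.2 g _ _ (ha.rep.isPullback g)
  have hloc : ∀ x : X.left, ∃ A : X.left.Opens, IsAffineOpen A ∧ x ∈ A ∧
      ∃ B : W.left.Opens, IsAffineOpen B ∧ A ≤ r.left ⁻¹ᵁ B := fun x => by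
    obtain ⟨B, hB, hxB, -⟩ := exists_isAffineOpen_mem_and_subset (U := (⊤ : W.left.Opens)) (x := r.left x) trivial
    obtain ⟨A, hA, hxA, hAB⟩ := exists_isAffineOpen_mem_and_subset (U := r.left ⁻¹ᵁ B) (x := x) hxB
    exact ⟨A, hA, hxA, B, hB, hAB⟩
  choose A hA hxA B hB hAB using hloc
  obtain ⟨t, ht⟩ := isCompact_univ.elim_finite_subcover (fun x => q.left '' (A x : Set X.left))
    (fun x => q.left.isOpenMap _ (A x).2) (fun e _ => by
      obtain ⟨x, rfl⟩ := q.left.surjective e
      exact Set.mem_iUnion.2 ⟨x, x, hxA x, rfl⟩)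
  let ι : Type u := ULift.{u} (Fin t.card)
  let pt : ι → X.left := fun i => (t.equivFin.symm i.down).1
  have : ∀ i : ι, IsAffine (A (pt i)).toScheme := fun i => hA _
  have : ∀ i : ι, IsAffine (B (pt i)).toScheme := fun i => hB _
  let jA : (∐ fun i : ι => (A (pt i)).toScheme) ⟶ X.left := Sigma.desc fun i => (A (pt i)).ι
  let jB : (∐ fun i : ι => (B (pt i)).toScheme) ⟶ W.left := Sigma.desc fun i => (B (pt i)).ι
  let m : (∐ fun i : ι => (A (pt i)).toScheme) ⟶ ∐ fun i : ι => (B (pt i)).toScheme :=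
    Limits.Sigma.map fun i => r.left.resLE (B (pt i)) (A (pt i)) (hAB _)
  have hjA : Etale jA := by
    refine IsZariskiLocalAtSource.of_openCover (sigmaOpenCover _) fun i => ?_
    change Etale (Sigma.ι (fun i : ι => (A (pt i)).toScheme) i ≫ jA)
    rw [Sigma.ι_desc]; infer_instance
  have hjB : Etale jB := by
    refine IsZariskiLocalAtSource.of_openCover (sigmaOpenCover _) fun i => ?_
    change Etale (Sigma.ι (fun i : ι => (B (pt i)).toScheme) i ≫ jB)
    rw [Sigma.ι_desc]; infer_instance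
  have hm : m ≫ jB = jA ≫ r.left := Sigma.hom_ext _ _ fun i => by
    simp [m, jA, jB]
  let E' : Over S := Over.mk (jA ≫ X.hom)
  let V : Over S := Over.mk (jB ≫ W.hom)
  let φ : E' ⟶ V := Over.homMk m (by
    change m ≫ jB ≫ W.hom = jA ≫ X.hom
    rw [reassoc_of% hm, Over.w r])
  let kA : E' ⟶ X := Over.homMk jA rfl
  let kB : V ⟶ W := Over.homMk jB rfl
  refine ⟨E', V, kA ≫ q, φ, (yon S).map kB ≫ a, inferInstanceAs (IsAffine (∐ fun i : ι => (A (pt i)).toScheme)),
    inferInstanceAs (IsAffine (∐ fun i : ι => (B (pt i)).toScheme)),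
    inferInstanceAs (Etale (jA ≫ q.left)), ⟨fun e => ?_⟩,
    repWith_comp ((repWith_yon_map_iff _ kB).2 hjB) ha, ?_⟩
  · obtain ⟨x, hx, y, hy, rfl⟩ := Set.mem_iUnion₂.1 (ht (Set.mem_univ e))
    let i : ι := ⟨t.equivFin ⟨x, hx⟩⟩
    have hi : pt i = x := by simp [pt, i]
    refine ⟨Sigma.ι (fun i : ι => (A (pt i)).toScheme) i ⟨y, hi ▸ hy⟩, ?_⟩
    change (jA ≫ q.left) _ = _
    rw [← Scheme.Hom.comp_apply, Sigma.ι_desc_assoc]
    rfl
  · have e1 : φ ≫ kB = kA ≫ r := Over.OverMorphism.ext hm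
    rw [← Functor.map_comp_assoc, e1, Functor.map_comp_assoc, Functor.map_comp_assoc, (ha.rep.isPullback' g).w]

variable {c : Z ⟶ U} {j : Z ⟶ Z₁} {k : Z₁ ⟶ U}

/-- The square of the ideal of `Z` vanishes on a chart factoring through the neighbourhood. -/
theorem ker_sq_le (hN : IsInfNbhd 1 c j k) {V E : Over S} [IsAffine V.left] [IsAffine E.left]
    (p : (yon S).obj V ⟶ U) (hp : RepWith @Etale p) (φ : E ⟶ V) (l : (yon S).obj E ⟶ Z₁)
    (hl : l ≫ k = (yon S).map φ ≫ p) :
    (hN.2.1.rep.snd p).left.ker * (hN.2.1.rep.snd p).left.ker ≤ φ.left.ker := by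
  have hk := hN.2.2.1
  have : IsClosedImmersion (hk.rep.snd p).left := hk.property_snd p
  have h := hN.2.2.2 p _ _ _ _ ‹_› hp (hN.2.1.rep.isPullback p) (hk.rep.isPullback p)
  rw [← pow_two, ← h]
  exact (factor_iff_ker_le (hk.rep.snd p) φ).1 ⟨hk.rep.lift l φ hl, hk.rep.lift_snd _ _ _⟩

/-- On an affine scheme over the neighbourhood the ideal of `Z` has square zero. -/
theorem sqZero_ker (hU : IsAlgSpace U) (hN : IsInfNbhd 1 c j k) {E D : Over S} [IsAffine E.left]
    (g : (yon S).obj E ⟶ Z₁) {fst : (yon S).obj D ⟶ Z} {snd : D ⟶ E}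
    (hD : IsPullback fst ((yon S).map snd) c (g ≫ k)) : snd.left.ker * snd.left.ker = ⊥ := by
  obtain ⟨E', V, π, φ, p, _, _, _, _, hp, w⟩ := exists_affine_chart_over hU (g ≫ k)
  have hc := hN.2.1
  have : IsClosedImmersion snd.left := hc.property _ _ _ hD
  refine Groth.Agent.MorLib.ker_mul_ker_eq_bot_of_isAffine _ ?_
  rw [pow_two, eq_bot_iff, Ideal.mul_le]
  intro x hx y hy
  rw [Ideal.mem_bot]
  refine eq_zero_of_flat_cover (x * y) fun v => ?_
  obtain ⟨v', rfl⟩ := π.left.surjective v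
  refine ⟨E'.left, π.left, v', inferInstance, rfl, ?_⟩
  have hR := hc.rep.isPullback ((yon S).map π ≫ g ≫ k)
  let sndR := hc.rep.snd ((yon S).map π ≫ g ≫ k)
  have : IsClosedImmersion sndR.left := hc.property_snd _
  have hR' : ∀ q, q = (yon S).map π ≫ g ≫ k → IsPullback (hc.rep.fst ((yon S).map π ≫ g ≫ k))
      ((yon S).map sndR) c q := by rintro q rfl; exact hR
  have hK : sndR.left.ker = (hc.rep.snd p).left.ker.comap φ.left :=
    ker_of_isPullback hc p φ (hR' _ w.symm)
  have hmem : ∀ x, x ∈ RingHom.ker snd.left.appTop.hom →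
      π.left.appTop x ∈ (((hc.rep.snd p).left.ker.ideal ⟨⊤, isAffineOpen_top _⟩).map φ.left.appTop.hom) := by
    intro x hx
    rw [← comap_ideal_top, ← hK, Scheme.Hom.ker_apply]
    obtain ⟨m, hm₁⟩ : ∃ m : hc.rep.pullback ((yon S).map π ≫ g ≫ k) ⟶ D, m ≫ snd = sndR ≫ π := by
      obtain ⟨m, hm⟩ := (yon S).map_surjective (hD.lift (hc.rep.fst ((yon S).map π ≫ g ≫ k))
        ((yon S).map (sndR ≫ π)) (by rw [hR.w, Functor.map_comp, Category.assoc]))
      exact ⟨m, (yon S).map_injective (by rw [Functor.map_comp, hm, hD.lift_snd])⟩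
    change sndR.left.app ⊤ (π.left.appTop x) = 0
    have e := congrArg (fun f : hc.rep.pullback ((yon S).map π ≫ g ≫ k) ⟶ E => f.left.appTop x) hm₁
    simp only [Over.comp_left, Scheme.Hom.comp_appTop, CommRingCat.comp_apply] at e
    rw [RingHom.mem_ker.1 hx, map_zero] at e
    exact e.symm
  have hxy := Ideal.mul_mem_mul (hmem x hx) (hmem y hy)
  rw [← Ideal.map_mul] at hxy
  have h0 : ((hc.rep.snd p).left.ker.ideal ⟨⊤, isAffineOpen_top _⟩ *
      (hc.rep.snd p).left.ker.ideal ⟨⊤, isAffineOpen_top _⟩).map φ.left.appTop.hom = ⊥ := by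
    rw [eq_bot_iff, Ideal.map_le_iff_le_comap, ← RingHom.ker_eq_comap_bot]
    have := ker_sq_le hN p hp φ ((yon S).map π ≫ g) (by rw [Category.assoc, w]) ⟨⊤, isAffineOpen_top _⟩
    rw [Scheme.IdealSheafData.ideal_mul, Pi.mul_apply, Scheme.Hom.ker_apply φ.left] at this
    exact this
  rw [h0, Ideal.mem_bot] at hxy
  rw [map_mul]
  exact hxy

/-- The inclusion into the neighbourhood is a first order thickening. -/
theorem isFOThickMor (hU : IsAlgSpace U) (hN : IsInfNbhd 1 c j k) : IsFOThickMor j := by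
  have : Mono k := mono_of_closedImmersion hN.2.2.1
  have sqj : IsPullback (𝟙 Z) j c k := by
    refine IsPullback.mk ⟨by simp [hN.1]⟩ ⟨PullbackCone.IsLimit.mk _ (fun s => s.fst) (fun s => Category.comp_id _)
      (fun s => ?_) (fun s m h₁ _ => by simpa using h₁)⟩
    rw [← cancel_mono k, Category.assoc, hN.1]
    exact s.condition
  have hj : RepWith @IsClosedImmersion j := repWith_of_isPullback sqj hN.2.1
  refine ⟨⟨hj.rep, fun {W D} g fst snd sq => ?_⟩, fun W D g fst snd hW _ sq => ?_⟩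
  · have : IsClosedImmersion snd.left := hj.property _ _ _ sq
    refine ⟨this, ⟨fun w => ?_⟩⟩
    obtain ⟨O, hO, hwO, -⟩ := exists_isAffineOpen_mem_and_subset (U := (⊤ : W.left.Opens)) (x := w) trivial
    let E : Over S := Over.mk (O.ι ≫ W.hom)
    let e : E ⟶ W := Over.homMk O.ι rfl
    have : IsAffine E.left := hO
    have hR := hj.rep.isPullback ((yon S).map e ≫ g)
    have : IsClosedImmersion (hj.rep.snd ((yon S).map e ≫ g)).left := hj.property_snd _
    have hsq := sqZero_ker hU hN ((yon S).map e ≫ g) (hR.paste_horiz sqj)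
    have hw : (⟨w, hwO⟩ : E.left) ∈ Set.range (hj.rep.snd ((yon S).map e ≫ g)).left := by
      have h1 : ((hj.rep.snd ((yon S).map e ≫ g)).left.ker ^ 2).support =
          (hj.rep.snd ((yon S).map e ≫ g)).left.ker.support := Scheme.IdealSheafData.support_pow _ 2 two_ne_zero
      rw [pow_two, hsq, Scheme.IdealSheafData.support_bot] at h1
      have h2 : (⟨w, hwO⟩ : E.left) ∈ ((hj.rep.snd ((yon S).map e ≫ g)).left.ker.support : Set E.left) := by
        rw [← h1]; trivial
      rw [Scheme.Hom.support_ker] at h2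
      exact (hj.rep.snd ((yon S).map e ≫ g)).left.isClosedEmbedding.isClosed_range.closure_eq ▸ h2
    obtain ⟨d, hd⟩ := hw
    obtain ⟨m, hm⟩ := (yon S).map_surjective (sq.lift (hj.rep.fst ((yon S).map e ≫ g))
      ((yon S).map (hj.rep.snd ((yon S).map e ≫ g) ≫ e)) (by rw [hR.w, Functor.map_comp, Category.assoc]))
    have hms : m ≫ snd = hj.rep.snd ((yon S).map e ≫ g) ≫ e :=
      (yon S).map_injective (by rw [Functor.map_comp, hm, sq.lift_snd])
    refine ⟨m.left d, ?_⟩
    change (m ≫ snd).left d = w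
    rw [hms, Over.comp_left, Scheme.Hom.comp_apply, hd]
    rfl
  · have := hW
    exact sqZero_ker hU hN g (sq.paste_horiz sqj)

/-- Universality for affine test thickenings. -/
theorem existsUnique_lift (hU : IsAlgSpace U) (hN : IsInfNbhd 1 c j k) {T T' : Over S} (t : T ⟶ T')
    [IsAffine T'.left] (ht : IsFOThickMor ((yon S).map t)) (a : (yon S).obj T ⟶ Z) (b : (yon S).obj T' ⟶ U)
    (w : (yon S).map t ≫ b = a ≫ c) :
    ∃! a' : (yon S).obj T' ⟶ Z₁, (yon S).map t ≫ a' = a ≫ j ∧ a' ≫ k = b := by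
  have : Mono k := mono_of_closedImmersion hN.2.2.1
  obtain ⟨E', V, π, φ, p, _, _, _, _, hp, wE⟩ := exists_affine_chart_over hU b
  have hc := hN.2.1
  have hR : IsPullback ((yon S).map (pullback.fst t π)) ((yon S).map (pullback.snd t π)) ((yon S).map t)
      ((yon S).map π) := (IsPullback.of_hasPullback t π).map (yon S)
  have hsq : sqZero (pullback.snd t π).left :=
    sqZero_snd (IsAlgSpace.yon_obj T') ht ((yon S).map π) _ _ hR
  have : IsClosedImmersion (pullback.snd t π).left := (ht.1.2 _ _ _ hR).1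
  let K := (hc.rep.snd p).left.ker
  have : IsClosedImmersion (hc.rep.snd p).left := hc.property_snd p
  have : IsClosedImmersion (hN.2.2.1.rep.snd p).left := hN.2.2.1.property_snd p
  obtain ⟨l, hl⟩ : ∃ l, l ≫ hN.2.2.1.rep.snd p = φ := by
    rw [factor_iff_ker_le, hN.2.2.2 p _ _ _ _ ‹_› hp (hc.rep.isPullback p) (hN.2.2.1.rep.isPullback p)]
    refine Scheme.IdealSheafData.le_of_isAffine ?_
    rw [pow_two, Scheme.IdealSheafData.ideal_mul, Pi.mul_apply, Scheme.Hom.ker_apply φ.left, Ideal.mul_le]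
    have hmem : ∀ x ∈ (hc.rep.snd p).left.ker.ideal ⟨⊤, isAffineOpen_top _⟩,
        φ.left.appTop x ∈ RingHom.ker (pullback.snd t π).left.appTop.hom := by
      intro x hx
      rw [Scheme.Hom.ker_apply] at hx
      let m : pullback t π ⟶ hc.rep.pullback p :=
        hc.rep.lift ((yon S).map (pullback.fst t π) ≫ a) (pullback.snd t π ≫ φ) (by
          rw [Category.assoc, ← w, ← Category.assoc, hR.w, Category.assoc, wE, Functor.map_comp, Category.assoc])
      have e := congrArg (fun f : pullback t π ⟶ V => f.left.appTop x)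
        (show m ≫ hc.rep.snd p = pullback.snd t π ≫ φ from hc.rep.lift_snd _ _ _)
      simp only [Over.comp_left, Scheme.Hom.comp_appTop, CommRingCat.comp_apply] at e
      erw [RingHom.mem_ker.1 hx, map_zero] at e
      exact e.symm
    intro x hx y hy
    rw [RingHom.mem_ker]
    have := Ideal.mul_mem_mul (hmem x hx) (hmem y hy)
    rw [← pow_two, Groth.Agent.MorLib.ker_appTop_sq_eq_bot _ hsq, Ideal.mem_bot] at this
    exact (map_mul _ _ _).trans this
  have hπ : RepWith @Etale ((yon S).map π) := (repWith_yon_map_iff _ π).2 ‹_›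
  have hπs : RepWith @Surjective ((yon S).map π) := (repWith_yon_map_iff _ π).2 ‹_›
  obtain ⟨a', ha'⟩ := exists_factor_of_cover hπ hπs b (j := k)
    ⟨(yon S).map l ≫ hN.2.2.1.rep.fst p, by
      rw [Category.assoc, (hN.2.2.1.rep.isPullback p).w, ← Functor.map_comp_assoc, hl, wE]⟩
  refine ⟨a', ⟨?_, ha'⟩, fun a'' h => ?_⟩
  · rw [← cancel_mono k, Category.assoc, ha', w, Category.assoc, hN.1]
  · rw [← cancel_mono k, h.2, ha']

/-- The neighbourhood inside an open subspace is universal over the ambient space. -/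
theorem isUnivFOThick {Z U X Z₁ : AlgSp.Space S} (c : Z ⟶ U) (u : U ⟶ X) (hu : RepWith @IsOpenImmersion u.hom)
    (j : Z ⟶ Z₁) (k : Z₁ ⟶ U) (hN : IsInfNbhd 1 c.hom j.hom k.hom) :
    IsUnivFOThick (c ≫ u).hom j.hom (k ≫ u).hom :=
  Groth.Agent.S10631.result c u j k
    ((Groth.Agent.S10630.result c j k (isFOThickMor U.property hN) (ObjectProperty.hom_ext _ hN.1)).2
      fun T T' t hT' ht a b w => by
        have := hT'
        exact existsUnique_lift U.property hN t ht a b w)
    (isFormallyEtaleMor_of_isEtaleMor U.property (isEtaleMor_of_repWith_isOpenImmersion hu))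

end Groth.Agent.InfNbhdUniv
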